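import Mathlib
import Groth.Agent.GeomRk.FibSmooth
import Groth.Agent.CMFlatLib.BaseChange
import Groth.Agent.FlatLocus.FibreCrit
import Groth.Agent.FlatLocus.Scheme

/-! Flatness and smoothness of a proper scheme over a smooth algebra over a DVR, read after completion. -/

set_option autoImplicit false
set_option backward.isDefEq.respectTransparency false
set_option backward.defeqAttrib.useBackward true
set_option linter.style.haveILetI false
set_option quotPrecheck false

universe u

open CategoryTheory CategoryTheory.Limits AlgebraicGeometry IsLocalRing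

namespace Groth.Agent.DVRFlatCompl

variable {V : Type u} [CommRing V] [IsLocalRing V] {A : Type u} [CommRing A] [Algebra V A]

local notation "J" => (IsLocalRing.maximalIdeal V).map (algebraMap V A)
local notation "gA" => Spec.map (CommRingCat.ofHom (algebraMap V A))
local notation "jA" => Spec.map (CommRingCat.ofHom (Ideal.Quotient.mk ((IsLocalRing.maximalIdeal V).map (algebraMap V A))))
local notation "cA" => Spec.map (CommRingCat.ofHom (algebraMap A (AdicCompletion ((IsLocalRing.maximalIdeal V).map (algebraMap V A)) A)))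

theorem eq_closedPoint_iff (y : Spec (CommRingCat.of A)) :
    gA y = closedPoint V ↔ J ≤ y.asIdeal := by
  rw [Ideal.map_le_iff_le_comap]
  refine ⟨fun h => (congrArg PrimeSpectrum.asIdeal h).ge, fun h => PrimeSpectrum.ext ?_⟩
  refine ((IsLocalRing.maximalIdeal.isMaximal V).eq_of_le ?_ h).symm
  exact Ideal.comap_ne_top _ y.isPrime.ne_top

theorem mem_range_quot {y : Spec (CommRingCat.of A)} (h : J ≤ y.asIdeal) : y ∈ Set.range jA := by
  show y ∈ Set.range (PrimeSpectrum.comap (Ideal.Quotient.mk J))
  rw [range_comap_of_surjective _ (Ideal.Quotient.mk J) Ideal.Quotient.mk_surjective, Ideal.mk_ker]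
  exact h

/-- The closed fibre factors through the reduction. -/
theorem exists_factor :
    ∃ t : (gA).fiber (closedPoint V) ⟶ Spec (CommRingCat.of (A ⧸ J)), t ≫ jA = (gA).fiberι (closedPoint V) := by
  let T := (gA).fiber (closedPoint V)
  haveI : IsAffine T := inferInstanceAs (IsAffine (pullback gA _))
  let ψ := Spec.preimage ((Spec (CommRingCat.of V)).fromSpecResidueField (closedPoint V))
  let ρ := Spec.preimage (T.isoSpec.inv ≫ (gA).fiberι (closedPoint V))
  let χ := Spec.preimage (T.isoSpec.inv ≫ (gA).fiberToSpecResidueField (closedPoint V))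
  have hρ : CommRingCat.ofHom (algebraMap V A) ≫ ρ = ψ ≫ χ := by
    apply Spec.map_injective
    rw [Spec.map_comp, Spec.map_comp, Spec.map_preimage, Spec.map_preimage, Spec.map_preimage,
      Category.assoc, Category.assoc]
    exact congrArg (T.isoSpec.inv ≫ ·) ((gA).fiber_fac (closedPoint V))
  have hψ : ∀ a ∈ maximalIdeal V, ψ.hom a = 0 := fun a ha => by
    by_contra hne
    let pt : Spec ((Spec (CommRingCat.of V)).residueField (closedPoint V)) := ⟨⊥, Ideal.isPrime_bot⟩
    have h1 : Spec.map ψ pt = closedPoint V := by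
      rw [Spec.map_preimage]
      exact Scheme.fromSpecResidueField_apply _ _
    have h2 : a ∈ (Spec.map ψ pt).asIdeal := by rw [h1]; exact ha
    exact hne h2
  have hle : J ≤ RingHom.ker ρ.hom := by
    rw [Ideal.map_le_iff_le_comap]
    intro a ha
    show ρ.hom (algebraMap V A a) = 0
    rw [show ρ.hom (algebraMap V A a) = χ.hom (ψ.hom a) from congrArg (fun φ => φ.hom a) hρ, hψ a ha, map_zero]
  refine ⟨T.isoSpec.hom ≫ Spec.map (CommRingCat.ofHom (Ideal.Quotient.lift J ρ.hom hle)), ?_⟩
  rw [Category.assoc, ← Spec.map_comp, show CommRingCat.ofHom (Ideal.Quotient.mk J) ≫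
    CommRingCat.ofHom (Ideal.Quotient.lift J ρ.hom hle) = ρ from rfl, Spec.map_preimage, Iso.hom_inv_id_assoc]

variable [IsNoetherianRing A] {X : Scheme.{u}} (h : X ⟶ Spec (CommRingCat.of A)) [LocallyOfFiniteType h]

/-- Flatness over the algebra at a point of the closed fibre. -/
theorem flat_of_closed [Flat (h ≫ gA)] [LocallyOfFinitePresentation (h ≫ gA)] [LocallyOfFiniteType (gA)]
    [Flat (pullback.snd h jA)] (x : X) (hx : gA (h x) = closedPoint V) : (h.stalkMap x).hom.Flat := by
  obtain ⟨t, ht⟩ := exists_factor (V := V) (A := A)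
  let s := closedPoint V
  have hx' : (h ≫ gA) x = s := hx
  obtain ⟨z, hz⟩ : x ∈ Set.range ((h ≫ gA).fiberι s) := by rw [Scheme.Hom.range_fiberι]; exact hx'
  have h1 : MoreMor.fiberMap h gA s ≫ (gA).fiberι s = (h ≫ gA).fiberι s ≫ h := pullback.lift_fst _ _ _
  have h2 : MoreMor.fiberMap h gA s ≫ (gA).fiberToSpecResidueField s = (h ≫ gA).fiberToSpecResidueField s :=
    pullback.lift_snd _ _ _
  have hsq : IsPullback ((h ≫ gA).fiberι s) (MoreMor.fiberMap h gA s) h ((gA).fiberι s) := by
    refine IsPullback.of_bot ?_ h1.symm (IsPullback.of_hasPullback gA ((Spec (CommRingCat.of V)).fromSpecResidueField s))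
    show IsPullback ((h ≫ gA).fiberι s) (MoreMor.fiberMap h gA s ≫ (gA).fiberToSpecResidueField s) (h ≫ gA) _
    rw [h2]
    exact IsPullback.of_hasPullback (h ≫ gA) _
  have hflat : Flat (MoreMor.fiberMap h gA s) := by
    let l : (h ≫ gA).fiber s ⟶ pullback h jA :=
      pullback.lift ((h ≫ gA).fiberι s) (MoreMor.fiberMap h gA s ≫ t) (by rw [Category.assoc, ht, h1])
    have hsq' : IsPullback l (MoreMor.fiberMap h gA s) (pullback.snd h jA) t := by
      refine IsPullback.of_right ?_ (pullback.lift_snd _ _ _) (IsPullback.of_hasPullback h jA)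
      rw [pullback.lift_fst, ht]
      exact hsq
    exact MorphismProperty.of_isPullback hsq' inferInstance
  haveI := hflat
  exact ((FlatLocus.fibre_criterion h gA s z x hz).1
    ⟨Flat.stalkMap (h ≫ gA) x, Flat.stalkMap (MoreMor.fiberMap h gA s) z⟩).2

/-- Every nonempty closed subset of the completed scheme meets the closed fibre. -/
theorem exists_closed [IsProper h] {Z : Set ↥(pullback h cA)} (hZ : IsClosed Z) (hne : Z.Nonempty) :
    ∃ x' ∈ Z, J ≤ (h (pullback.fst h cA x')).asIdeal := by
  have hJ : (J).FG := IsNoetherian.noetherian _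
  let C := AdicCompletion J A
  haveI : IsAdicComplete ((J).map (algebraMap A C)) C := AdicCompletion.isAdicComplete_self J hJ
  haveI : CompactSpace ↥(pullback h cA) := QuasiCompact.compactSpace_of_compactSpace (pullback.snd h cA)
  obtain ⟨x', hx', hcl⟩ := hZ.exists_closed_singleton hne
  refine ⟨x', hx', ?_⟩
  have h2 : IsClosed ({pullback.snd h cA x'} : Set (Spec (CommRingCat.of C))) := by
    rw [← Set.image_singleton]
    exact (pullback.snd h cA).isClosedMap _ hcl
  haveI : (pullback.snd h cA x').asIdeal.IsMaximal := (PrimeSpectrum.isClosed_singleton_iff_isMaximal _).1 h2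
  have h3 : (J).map (algebraMap A C) ≤ (pullback.snd h cA x').asIdeal :=
    (IsAdicComplete.le_jacobson_bot _).trans (sInf_le ⟨bot_le, inferInstance⟩)
  rw [show h (pullback.fst h cA x') = cA (pullback.snd h cA x') by
    rw [← Scheme.Hom.comp_apply, pullback.condition, Scheme.Hom.comp_apply]]
  exact Ideal.map_le_iff_le_comap.1 h3

/-- The reduction factors through the completion. -/
theorem exists_red_factor :
    ∃ e : Spec (CommRingCat.of (A ⧸ J)) ⟶ Spec (CommRingCat.of (AdicCompletion J A)), e ≫ cA = jA := by
  refine ⟨Spec.map (CommRingCat.ofHom (AdicCompletion.evalOneₐ J).toRingHom), ?_⟩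
  rw [← Spec.map_comp, show CommRingCat.ofHom (algebraMap A (AdicCompletion J A)) ≫
    CommRingCat.ofHom (AdicCompletion.evalOneₐ J).toRingHom = CommRingCat.ofHom (Ideal.Quotient.mk J) from
    CommRingCat.hom_ext (AdicCompletion.evalOneₐ J).comp_algebraMap]

/-- Pullback to the completion restricts to the reduction. -/
theorem red_of_compl (P : MorphismProperty Scheme.{u}) [P.IsStableUnderBaseChange]
    (hP : P (pullback.snd h cA)) : P (pullback.snd h jA) := by
  obtain ⟨e, he⟩ := exists_red_factor (V := V) (A := A)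
  have hsq : IsPullback (pullback.lift (pullback.fst h jA) (pullback.snd h jA ≫ e)
      (by rw [Category.assoc, he, pullback.condition])) (pullback.snd h jA) (pullback.snd h cA) e := by
    refine IsPullback.of_right ?_ (pullback.lift_snd _ _ _) (IsPullback.of_hasPullback h cA)
    rw [pullback.lift_fst, he]
    exact IsPullback.of_hasPullback h jA
  exact MorphismProperty.of_isPullback hsq hP

/-- The completion is flat at points over the closed fibre. -/
theorem exists_over {x : X} (hx : J ≤ (h x).asIdeal) : ∃ x' : ↥(pullback h cA), pullback.fst h cA x' = x := by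
  obtain ⟨y, hy⟩ := mem_range_quot hx
  obtain ⟨e, he⟩ := exists_red_factor (V := V) (A := A)
  have : x ∈ Set.range (pullback.fst h cA) := by
    rw [Scheme.Pullback.range_fst]
    exact ⟨e y, by rw [← Scheme.Hom.comp_apply, he]; exact hy⟩
  exact this

omit [IsNoetherianRing A] [LocallyOfFiniteType h] in
theorem flat_stalkMap_generic [IsDomain V] [IsDiscreteValuationRing V] (g : X ⟶ Spec (CommRingCat.of V)) (x : X)
    (hx : g x ≠ closedPoint V) : (g.stalkMap x).hom.Flat := by
  have hgen : g x = genericPoint (Spec (CommRingCat.of V)) := by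
    rw [genericPoint_eq_bot_of_affine]
    refine PrimeSpectrum.ext ?_
    by_contra hne
    exact hx (PrimeSpectrum.ext (IsLocalRing.eq_maximalIdeal ((g x).isPrime.isMaximal hne)))
  have hF : IsField ((Spec (CommRingCat.of V)).presheaf.stalk (g x)) := by
    rw [hgen]
    exact Field.toIsField (Spec (CommRingCat.of V)).functionField
  letI := hF.toField
  letI := (g.stalkMap x).hom.toAlgebra
  exact Module.Flat.of_free

/-- Flatness of the completion. -/
theorem flat_compl [IsProper h] [Flat (h ≫ gA)] [LocallyOfFinitePresentation gA] [Flat (pullback.snd h jA)] :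
    Flat (pullback.snd h cA) := by
  haveI : LocallyOfFinitePresentation h := inferInstance
  let f' := pullback.snd h cA
  refine Flat.of_stalkMap f' fun z => ?_
  by_contra hz
  obtain ⟨x', hx', hle⟩ := exists_closed h (FlatLocus.isOpen_flat_stalkMap f').isClosed_compl ⟨z, hz⟩
  exact hx' (CMFlatLib.flat_stalkMap_baseChange (IsPullback.of_hasPullback h cA) x'
    (flat_of_closed h _ ((eq_closedPoint_iff _).2 hle)))

/-- Smoothness of the completion. -/
theorem smooth_compl [IsProper h] [Flat (h ≫ gA)] [LocallyOfFinitePresentation gA] [Smooth (pullback.snd h jA)] :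
    Smooth (pullback.snd h cA) := by
  haveI : LocallyOfFinitePresentation h := inferInstance
  let f' := pullback.snd h cA
  haveI : LocallyOfFinitePresentation f' := MorphismProperty.pullback_snd _ _ inferInstance
  haveI : LocallyOfFinitePresentation (pullback.snd h jA) := inferInstance
  haveI : Flat f' := flat_compl h
  refine Scheme.Hom.smoothLocus_eq_top_iff.1 (top_unique fun z _ => ?_)
  by_contra hz
  obtain ⟨x', hx', hle⟩ := exists_closed h f'.smoothLocus.isOpen.isClosed_compl ⟨z, hz⟩
  refine hx' ?_
  obtain ⟨y, hy⟩ := mem_range_quot hle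
  obtain ⟨x₀, hx₀⟩ : pullback.fst h cA x' ∈ Set.range (pullback.fst h jA) := by
    rw [Scheme.Pullback.range_fst]; exact ⟨y, hy⟩
  have hfib₀ : GeomRk.FibSm (pullback.snd h jA) x₀ := by
    rw [GeomRk.FibSm, GeomRk.fibre_smooth_iff _ x₀ (Flat.stalkMap _ x₀)]
    have h' : x₀ ∈ (pullback.snd h jA).smoothLocus := by rw [Scheme.Hom.smoothLocus_eq_top]; trivial
    exact h'
  have hfib : GeomRk.FibSm h (pullback.fst h cA x') :=
    hx₀ ▸ (GeomRk.fibSm_baseChange (IsPullback.of_hasPullback h jA) x₀).1 hfib₀
  have hfib' : GeomRk.FibSm f' x' := (GeomRk.fibSm_baseChange (IsPullback.of_hasPullback h cA) x').2 hfib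
  rw [GeomRk.FibSm, GeomRk.fibre_smooth_iff _ x' (Flat.stalkMap _ x')] at hfib'
  exact hfib'

/-- Flatness of the completion gives flatness over the base. -/
theorem flat_base [IsDomain V] [IsDiscreteValuationRing V] [Flat gA] [Flat (pullback.snd h cA)] :
    Flat (h ≫ gA) := by
  have hc : (algebraMap A (AdicCompletion J A)).Flat := AdicCompletion.flat_of_isNoetherian J
  haveI : Flat cA := (HasRingHomProperty.Spec_iff (P := @Flat)).2 hc
  refine Flat.of_stalkMap (h ≫ gA) fun x => ?_
  by_cases hx : (h ≫ gA) x = closedPoint V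
  · have hle : J ≤ (h x).asIdeal := (eq_closedPoint_iff _).1 hx
    obtain ⟨x', rfl⟩ := exists_over h hle
    exact FlatLocus.flat_comp_stalkMap h gA _ (Flat.stalkMap gA _)
      (CMFlatLib.flat_stalkMap_descend (IsPullback.of_hasPullback h cA) x' (Flat.stalkMap cA _)
        (Flat.stalkMap (pullback.snd h cA) x'))
  · exact flat_stalkMap_generic (h ≫ gA) x hx

end Groth.Agent.DVRFlatCompl
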